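/-
An integral wall inequality for Mukai vectors.
-/
import Mathlib.LinearAlgebra.BilinearMap
import Mathlib.LinearAlgebra.BilinearForm.Basic
import Mathlib.Tactic.Linarith
import Mathlib.Tactic.Ring
import Mathlib.Tactic.Positivity
import Mathlib.Tactic.IntervalCases

set_option autoImplicit false

universe u

namespace MukaiWallLib

theorem core (n r d χ p q e : ℤ) (hn : 0 < n) (hr : 2 ≤ r) (hd : 0 < d) (hχ : χ < 0) (hp : 0 ≤ p)
    (hw : 4 * n * (p * q) ≤ e ^ 2)
    (hvu : 1 ≤ |d * e - r * q - χ * p| ∧ |d * e - r * q - χ * p| ≤ 2)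
    (hexc : ¬ (d = 1 ∧ χ = -1 ∧ e = 1 ∧ p * q = 0))
    (hr2 : r = 2 → ¬ (p = 0 ∧ e = 0)) :
    0 ≤ 2 * n * d * p - r * e ↔ 0 ≤ χ * e - 2 * n * d * q := by
  obtain ⟨hD1, hD2⟩ := hvu
  have hDle := abs_le.1 hD2
  have hnd : 1 ≤ n * d := by nlinarith
  rcases eq_or_ne e 0 with rfl | he
  · -- `e = 0`
    simp only [mul_zero, sub_zero, zero_sub]
    refine iff_of_true (by positivity) ?_
    rcases lt_or_eq_of_le hp with hp' | hp'
    · have : q ≤ 0 := by
        by_contra hq
        nlinarith [mul_pos hn (mul_pos hp' (not_le.1 hq))]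
      nlinarith
    · subst hp'
      exfalso
      simp only [mul_zero, sub_zero, zero_sub, abs_neg] at hD1 hD2 hDle
      have hq : q ≠ 0 := by rintro rfl; simp at hD1
      have : r = 2 := by
        rcases lt_or_gt_of_ne hq with h | h <;> nlinarith
      exact hr2 this ⟨rfl, rfl⟩
  rcases lt_or_eq_of_le hp with hp' | hp'
  · rcases lt_trichotomy q 0 with hq | hq | hq
    · -- `q < 0`: both sides have the same sign
      have key : 0 < (2 * n * d * p - r * e) * (χ * e - 2 * n * d * q) := by
        have h2 : p * q ≤ -1 := by nlinarith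
        have hrχ : 0 < -(r * χ) * e ^ 2 := by
          have : 0 < -(r * χ) := by nlinarith
          positivity
        have hid : (2 * n * d * p - r * e) * (χ * e - 2 * n * d * q) =
            2 * (n * d ^ 2) * e ^ 2 - 4 * n ^ 2 * d ^ 2 * (p * q) + -(r * χ) * e ^ 2 -
              2 * n * d * e * (d * e - r * q - χ * p) := by ring
        have habs : e * (d * e - r * q - χ * p) ≤ 2 * |e| := by
          calc e * (d * e - r * q - χ * p) ≤ |e * (d * e - r * q - χ * p)| := le_abs_self _
            _ = |e| * |d * e - r * q - χ * p| := abs_mul _ _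
            _ ≤ |e| * 2 := mul_le_mul_of_nonneg_left hD2 (abs_nonneg e)
            _ = 2 * |e| := mul_comm _ _
        have hsq : e ^ 2 = |e| ^ 2 := (sq_abs e).symm
        rw [hid]
        have h3 : 2 * n ≤ 4 * n ^ 2 * d ^ 2 := by
          nlinarith [mul_le_mul hnd hnd zero_le_one (by positivity : (0 : ℤ) ≤ n * d),
            mul_le_mul_of_nonneg_left hnd hn.le, hn]
        have h4 : 4 * n ^ 2 * d ^ 2 ≤ -(4 * n ^ 2 * d ^ 2 * (p * q)) := by
          nlinarith [mul_le_mul_of_nonneg_left h2 (by positivity : (0 : ℤ) ≤ 4 * n ^ 2 * d ^ 2)]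
        have h5 : 2 * n * d * e * (d * e - r * q - χ * p) ≤ 4 * (n * d * |e|) := by
          have := mul_le_mul_of_nonneg_left habs (by positivity : (0 : ℤ) ≤ 2 * n * d)
          linarith
        have h6 : 4 * (n * d * |e|) ≤ 2 * (n * d ^ 2) * e ^ 2 + 2 * n := by
          rw [hsq]
          nlinarith [mul_nonneg hn.le (sq_nonneg (d * |e| - 1))]
        linarith
      constructor <;> intro h <;> nlinarith
    · subst hq
      simp only [mul_zero, sub_zero] at hD1 hD2 hDle ⊢
      rcases lt_or_gt_of_ne he with h | h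
      · exact iff_of_true (by nlinarith [mul_pos (by omega : (0:ℤ) < r) (neg_pos.2 h)])
          (by nlinarith)
      · exfalso
        have h1 : 1 ≤ d * e := by nlinarith
        have h2 : 1 ≤ -χ * p := by nlinarith
        refine hexc ⟨?_, ?_, ?_, mul_zero p⟩
        · nlinarith
        · nlinarith
        · nlinarith
    · -- `q > 0`
      have hpq : 1 ≤ p * q := by nlinarith
      have hE : 2 ≤ |e| := by
        rw [← sq_abs] at hw
        nlinarith [abs_nonneg e]
      have hmain : 4 * (n * d) < (n * d ^ 2 + 2) * |e| := by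
        rcases le_or_gt 4 (d * |e|) with h4 | h4
        · nlinarith
        · have hd1 : d = 1 := by nlinarith
          subst hd1
          rw [← sq_abs] at hw
          have hE3 : |e| ≤ 3 := by omega
          have hn2 : n ≤ 2 := by nlinarith
          have hn1 : 1 ≤ n := hn
          interval_cases |e| <;> nlinarith
      have key : 0 < (2 * n * d * p - r * e) * (χ * e - 2 * n * d * q) := by
        have hid : (2 * n * d * p - r * e) * (χ * e - 2 * n * d * q) =
            n * d ^ 2 * (e ^ 2 - 4 * n * (p * q)) + (n * d ^ 2 + -(r * χ)) * e ^ 2 -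
              2 * n * d * e * (d * e - r * q - χ * p) := by ring
        have habs : e * (d * e - r * q - χ * p) ≤ 2 * |e| := by
          calc e * (d * e - r * q - χ * p) ≤ |e * (d * e - r * q - χ * p)| := le_abs_self _
            _ = |e| * |d * e - r * q - χ * p| := abs_mul _ _
            _ ≤ |e| * 2 := mul_le_mul_of_nonneg_left hD2 (abs_nonneg e)
            _ = 2 * |e| := mul_comm _ _
        have hrχ : 2 ≤ -(r * χ) := by nlinarith
        nlinarith [mul_le_mul_of_nonneg_left habs (by positivity : (0 : ℤ) ≤ 2 * n * d),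
          mul_lt_mul_of_pos_right hmain (by omega : (0 : ℤ) < |e|),
          mul_nonneg (by positivity : (0 : ℤ) ≤ n * d ^ 2) (sub_nonneg.2 hw),
          mul_le_mul_of_nonneg_right hrχ (sq_nonneg e), sq_abs e]
      constructor <;> intro h <;> nlinarith
  · subst hp'
    simp only [mul_zero, sub_zero, zero_sub] at hD1 hD2 hDle ⊢
    rcases lt_or_gt_of_ne he with h | h
    · have hq : q ≤ 0 := by
        by_contra hq
        nlinarith
      exact iff_of_true (by nlinarith) (by nlinarith)
    · have hq : 0 ≤ q := by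
        by_contra hq
        nlinarith
      exact iff_of_false (by nlinarith) (by nlinarith)

theorem main (N : Type u) [AddCommGroup N] (B : LinearMap.BilinForm ℤ N)
    (hB : ∀ x y : N, B x y = B y x)
    (H : N) (n : ℤ) (hn : 0 < n) (hH : B H H = 2 * n) (hodge : ∀ x : N, B x H = 0 → B x x ≤ 0)
    (r d χ p q : ℤ) (η : N) (hr : 2 ≤ r) (hd : 0 < d) (hχ : χ < 0) (hp : 0 ≤ p)
    (hiso : B η η = 2 * p * q)
    (hvu : 1 ≤ |d * B H η - r * q - χ * p| ∧ |d * B H η - r * q - χ * p| ≤ 2)
    (hexc : ¬ (d = 1 ∧ χ = -1 ∧ B H η = 1 ∧ B η η = 0))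
    (hr2 : r = 2 → ¬ (p = 0 ∧ B H η = 0)) :
    0 ≤ 2 * n * d * p - r * B H η ↔ 0 ≤ χ * B H η - 2 * n * d * q := by
  refine core n r d χ p q (B H η) hn hr hd hχ hp ?_ hvu
    (fun h => hexc ⟨h.1, h.2.1, h.2.2.1, by rw [hiso, mul_assoc, h.2.2.2, mul_zero]⟩) hr2
  have hx := hodge ((2 * n) • η - B H η • H) (by
    simp only [map_sub, map_zsmul, LinearMap.sub_apply, LinearMap.smul_apply, smul_eq_mul, hB η H,
      hH]
    ring)
  simp only [map_sub, map_zsmul, LinearMap.sub_apply, LinearMap.smul_apply, smul_eq_mul, hB η H,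
    hH, hiso] at hx
  nlinarith

end MukaiWallLib
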